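import Cfsg.Agent.H613.KKL.Defs
import Cfsg.Agent.H646.UCov
import Cfsg.Agent.H662.IndLocal
import Cfsg.Agent.Blocks.Over

/-!
# S4546: a normal abelian defect group and a stable covered block of its centralizer (helper38)

* `exists_stabilizer`: the stabilizer of a block of a normal subgroup.
* `odd_index`: if the defect group `D` of `B` is abelian and normal and the block `b` of `C_G(D)` covered by `B` is stable then
  the index of `C_G(D)` is prime to `p`.
* `frattini`: two conjugates of `D` are conjugate in `N`.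
-/

set_option autoImplicit false

open Cfsg Cfsg.Agent.H613.KKL

namespace Cfsg.Agent.H38.KKL

open Cfsg.Agent.Blocks.Fong (cj cj_apply cj_cj cj_one lideal_add lideal_sub lideal_mul_left lideal_natCast_of_dvd
  induced_eq_mul centralChar_isClassFunction)
open Cfsg.Agent.H646.UCov (stabilizesBlock_iff_cj cj_inv_cj cj_cj_inv)

universe u

variable {G : Type u} [Group G] [Finite G] {M : Ideal AlgInt}

/-- the stabilizer of a block of a normal subgroup -/
theorem exists_stabilizer (N : Subgroup G) [N.Normal] (b : Set (IrrCharacter ↥N)) :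
    ∃ T : Subgroup G, (∀ g : G, g ∈ T ↔ StabilizesBlock N b g) ∧ Subgroup.center G ≤ T := by
  classical
  have hmul : ∀ g h : G, StabilizesBlock N b g → StabilizesBlock N b h → StabilizesBlock N b (g * h) := by
    intro g h hg hh
    rw [stabilizesBlock_iff_cj] at hg hh ⊢
    intro θ hθ
    have h1 := hg _ (hh θ hθ)
    rw [cj_cj] at h1
    rwa [mul_inv_rev]
  have hone : StabilizesBlock N b 1 := by
    rw [stabilizesBlock_iff_cj]
    intro θ hθ
    rwa [inv_one, cj_one]
  let S : Submonoid G := { carrier := {g | StabilizesBlock N b g}, one_mem' := hone, mul_mem' := fun h1 h2 => hmul _ _ h1 h2 }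
  refine ⟨{ S with inv_mem' := ?_ }, fun g => Iff.rfl, ?_⟩
  · intro g hg
    have h1 : g⁻¹ = g ^ (Nat.card G - 1) := by
      rw [inv_eq_iff_mul_eq_one, ← pow_succ', Nat.sub_add_cancel Nat.card_pos, pow_card_eq_one']
    rw [h1]
    exact S.pow_mem hg _
  · intro z hz
    show StabilizesBlock N b z
    rw [stabilizesBlock_iff_cj]
    intro θ hθ
    have h1 : cj N z⁻¹ θ = θ := by
      apply Subtype.ext
      funext n
      rw [cj_apply]
      refine congrArg (θ : N → ℂ) (Subtype.ext ?_)
      rw [MulAut.conjNormal_apply]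
      have h2 : (n : G) * z = z * n := Subgroup.mem_center_iff.1 hz n
      rw [inv_inv, mul_assoc, h2, inv_mul_cancel_left]
    rwa [h1]

/-- the index of the centralizer of a normal abelian defect group with a stable covered block -/
theorem not_dvd_index {p : ℕ} [Fact p.Prime] (hM : IsPModular p M) {B : Set (IrrCharacter G)} (hB : IsPBlock M B)
    {D : Subgroup G} (hD : IsDefectGroup p M B D) (hab : ∀ a ∈ D, ∀ c ∈ D, a * c = c * a)
    (hN : (Subgroup.centralizer (D : Set G)).Normal)
    {b : Set (IrrCharacter ↥(Subgroup.centralizer (D : Set G)))} (hb : IsPBlock M b)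
    (hst : ∀ g : G, StabilizesBlock (Subgroup.centralizer (D : Set G)) b g)
    (hcov : Cov (Subgroup.centralizer (D : Set G)) b B) :
    ¬ p ∣ (Subgroup.centralizer (D : Set G)).index := by
  classical
  have hMp : M.IsPrime := hM.2.1.isPrime
  have hp : p.Prime := Fact.out
  obtain ⟨C, hC⟩ : ∃ C, C = Subgroup.centralizer (D : Set G) := ⟨_, rfl⟩
  revert b
  rw [← hC] at hN ⊢
  intro b hb hst hcov
  haveI : Fintype C := Fintype.ofFinite C
  obtain ⟨χ, hχ, θ, hθ, hne⟩ := hcov
  have hne' : classInner (fun n : C => (χ : G → ℂ) n) (θ : C → ℂ) ≠ 0 := by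
    convert hne
  obtain ⟨y, hy, P, hP⟩ := hD
  have hDy : D ≤ Subgroup.centralizer ({y} : Set G) := by
    rw [hP]
    exact Subgroup.map_subtype_le _
  have hyC : y ∈ C := by
    rw [hC, Subgroup.mem_centralizer_iff]
    intro d hd
    exact Subgroup.mem_centralizer_singleton_iff.1 (hDy hd)
  have hDC : D ≤ C := by
    intro d hd
    rw [hC, Subgroup.mem_centralizer_iff]
    intro e he
    exact hab e he d hd
  have h1 := Cfsg.Agent.Blocks.Over.centralChar_eq_of_over C χ.2 θ.2 hne' ⟨y, hyC⟩
  have hcls : IsClassFunction C (θ : C → ℂ) := Cfsg.Agent.Blocks.Basic.irr_isClassFunction θ.2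
  obtain ⟨t, ht1, ht2⟩ := induced_eq_mul hMp C hcls ⟨y, hyC⟩ (fun g => by
    have h2 := (stabilizesBlock_iff_cj C b g⁻¹).1 (hst g⁻¹) θ hθ
    rw [inv_inv] at h2
    have h3 : SameBlock M (cj C g θ : C → ℂ) (θ : C → ℂ) := Cfsg.Agent.Blocks.Basic.isPBlock_sameBlock hb h2 hθ
    have h4 := h3 ⟨y, hyC⟩
    have h5 : centralChar (cj C g θ : C → ℂ) ⟨y, hyC⟩ = centralChar (θ : C → ℂ) (MulAut.conjNormal g ⟨y, hyC⟩) := by
      have h6 : (cj C g θ : C → ℂ) = fun n => (θ : C → ℂ) (MulAut.conjNormal g n) := by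
        funext n
        exact cj_apply C g θ n
      rw [h6]
      exact Cfsg.Agent.Blocks.Fong.centralChar_comp_equiv (MulAut.conjNormal g) _ _
    rwa [h5] at h4)
  have ht : ¬ p ∣ t := by
    intro hpt
    apply hy.2.2 χ hχ
    rw [h1]
    have h2 : MemLocalIdeal M ((t : ℂ) * centralChar (θ : C → ℂ) ⟨y, hyC⟩) :=
      Cfsg.Agent.Blocks.Fong.lideal_mul_right hMp (lideal_natCast_of_dvd hM hpt)
        (Cfsg.Agent.Blocks.Osima.memLocalRing_centralChar hM θ.2 _)
    have h3 := lideal_add hMp ht1 h2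
    rwa [sub_add_cancel] at h3
  -- the orders
  have hDcard : Nat.card D = Nat.card (P : Subgroup (Subgroup.centralizer ({y} : Set G))) := by
    rw [hP]
    exact Subgroup.card_map_of_injective (Subgroup.subtype_injective _)
  have hc1 : Nat.card (Subgroup.centralizer ({y} : Set G)) = Nat.card D *
      (P : Subgroup (Subgroup.centralizer ({y} : Set G))).index := by
    rw [hDcard, Subgroup.card_mul_index]
  have hc2 : Nat.card D ∣ Nat.card (Subgroup.centralizer ({(⟨y, hyC⟩ : C)} : Set C)) := by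
    have h2 : Nat.card (D.subgroupOf C) = Nat.card D := Nat.card_congr (Subgroup.subgroupOfEquivOfLe hDC).toEquiv
    rw [← h2]
    refine Subgroup.card_dvd_of_le ?_
    intro d hd
    rw [Subgroup.mem_centralizer_singleton_iff]
    apply Subtype.ext
    exact Subgroup.mem_centralizer_singleton_iff.1 (hDy hd)
  obtain ⟨k, hk⟩ := hc2
  have hc3 := Subgroup.card_mul_index (Subgroup.centralizer ({y} : Set G))
  have hc4 := Subgroup.card_mul_index (Subgroup.centralizer ({(⟨y, hyC⟩ : C)} : Set C))
  have hc5 := Subgroup.card_mul_index C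
  have hI : 0 < (Subgroup.centralizer ({(⟨y, hyC⟩ : C)} : Set C)).index := Nat.pos_of_ne_zero Subgroup.index_ne_zero_of_finite
  have hDpos : 0 < Nat.card D := Nat.card_pos
  have hkey : k * C.index = (P : Subgroup (Subgroup.centralizer ({y} : Set G))).index * t := by
    rw [← ht2, hc1, ← hc5, ← hc4, hk] at hc3
    refine Nat.eq_of_mul_eq_mul_left hDpos (Nat.eq_of_mul_eq_mul_right hI ?_)
    linarith
  intro hdvd
  have h2 : p ∣ (P : Subgroup (Subgroup.centralizer ({y} : Set G))).index * t := by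
    rw [← hkey]
    exact dvd_mul_of_dvd_right hdvd k
  rcases hp.dvd_mul.1 h2 with h3 | h3
  · exact P.not_dvd_index h3
  · exact ht h3

/-- two conjugates of `D` are conjugate in `N` -/
theorem frattini (hM : IsPModular 2 M) {N : Subgroup G} [N.Normal] {b : Set (IrrCharacter ↥N)} (hb : IsPBlock M b)
    {D D' : Subgroup G} (h1 : IsDefectGroup 2 M b (D.subgroupOf N)) (h2 : IsDefectGroup 2 M b (D'.subgroupOf N))
    (hD' : D' ≤ N) : ∃ n ∈ N, ∀ d ∈ D', n * d * n⁻¹ ∈ D := by
  haveI : Fact (Nat.Prime 2) := ⟨Nat.prime_two⟩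
  obtain ⟨x, hx⟩ := Cfsg.Agent.H662.defectGroup_conj hM hb h2 h1
  refine ⟨x, x.2, fun d hd => ?_⟩
  have h3 : MulAut.conj x ⟨d, hD' hd⟩ ∈ D.subgroupOf N := by
    rw [hx]
    exact ⟨_, Subgroup.mem_subgroupOf.2 hd, rfl⟩
  exact Subgroup.mem_subgroupOf.1 h3

end Cfsg.Agent.H38.KKL
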