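import Mathlib
import Cfsg.Agent.H613.KKL.Defs
import Cfsg.Prelude.Def_CaseTheorems

/-!
# S4546: the statements used by the reduction B9, as propositions (helper38)

The statements are those of `tools/plans/S4546_stubs.lean.txt`.
-/

set_option autoImplicit false

open Cfsg Cfsg.Agent.H613.KKL

namespace Cfsg.Agent.H38.KKL

universe u

def PA1 : Prop :=
  ∀ {G : Type u} [Group G] [Finite G] {M : Ideal AlgInt} (_ : IsPModular 2 M) {B : Set (IrrCharacter G)}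
    (_ : IsPBlock M B) {D : Subgroup G} (_ : IsDefectGroup 2 M B D) (_ : E8 D),
    ∃ x : G, Odd (orderOf x) ∧ (∀ d ∈ D, d * x = x * d) ∧ ∀ Q : Subgroup G, IsPGroup 2 Q →
      (∀ q ∈ Q, q * x = x * q) → ∃ c : G, c * x = x * c ∧ ∀ q ∈ Q, c * q * c⁻¹ ∈ D

def PA5 : Prop :=
  ∀ {G : Type u} [Group G] [Finite G] {M : Ideal AlgInt} (_ : IsPModular 2 M) {B : Set (IrrCharacter G)}
    (_ : IsPBlock M B) {D : Subgroup G} (_ : IsDefectGroup 2 M B D) (_ : E8 D)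
    {χ : IrrCharacter G} (_ : χ ∈ B) (_ : blockHeight 2 B (χ : G → ℂ) ≠ 0),
    ∃ (x : G) (θ : IrrCharacter ↥(Subgroup.centralizer (D : Set G))), CfgB D x θ

def PB1 : Prop :=
  ∀ {G : Type u} [Group G] [Finite G] {M : Ideal AlgInt} (_ : IsPModular 2 M) {B : Set (IrrCharacter G)}
    (_ : IsPBlock M B) {D : Subgroup G} (_ : IsDefectGroup 2 M B D) (_ : E8 D)
    (N : Subgroup G) [N.Normal] (b : Set (IrrCharacter ↥N)) (_ : IsPBlock M b)
    (_ : ∀ g : G, StabilizesBlock N b g) (_ : Cov N b B) (_ : D ≤ N), IsDefectGroup 2 M b (D.subgroupOf N)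

def PB2 : Prop :=
  ∀ {G : Type u} [Group G] [Finite G] {M : Ideal AlgInt} (_ : IsPModular 2 M) {B : Set (IrrCharacter G)}
    (_ : IsPBlock M B) {D : Subgroup G} (_ : IsDefectGroup 2 M B D) (_ : E8 D)
    (N : Subgroup G) [N.Normal] (b : Set (IrrCharacter ↥N)) (_ : IsPBlock M b)
    (_ : ∀ g : G, StabilizesBlock N b g) (_ : Cov N b B) (_ : D ⊓ N = ⊥),
    ∃ ξ : IrrCharacter ↥N, b = {ξ} ∧ Inv N ξ ∧
      (charDegree (ξ : ↥N → ℂ)).factorization 2 = (Nat.card ↥N).factorization 2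

def PB3 : Prop :=
  ∀ {G : Type u} [Group G] [Finite G] {M : Ideal AlgInt} (_ : IsPModular 2 M) {B : Set (IrrCharacter G)}
    (_ : IsPBlock M B) {D : Subgroup G} (_ : IsDefectGroup 2 M B D) (_ : E8 D)
    (N : Subgroup G) [N.Normal] (b : Set (IrrCharacter ↥N)) (_ : IsPBlock M b) (_ : Cov N b B)
    (T : Subgroup G) (_ : ∀ g : G, g ∈ T ↔ StabilizesBlock N b g) (_ : HZ ↥T),
    ∀ χ ∈ B, blockHeight 2 B (χ : G → ℂ) = 0

def PB4 : Prop :=
  ∀ {G : Type u} [Group G] [Finite G] {M : Ideal AlgInt} (_ : IsPModular 2 M) {B : Set (IrrCharacter G)}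
    (_ : IsPBlock M B) {D : Subgroup G} (_ : IsDefectGroup 2 M B D) (_ : E8 D)
    (N : Subgroup G) [N.Normal] (ξ : IrrCharacter ↥N) (_ : Inv N ξ)
    (_ : (charDegree (ξ : ↥N → ℂ)).factorization 2 = (Nat.card ↥N).factorization 2) (_ : Cov N {ξ} B)
    (_ : D ⊓ N = ⊥),
    ∃ (H : Type u) (_ : Group H) (_ : Finite H) (Z : Subgroup H) (_ : Z.Normal), Z ≤ Subgroup.center H ∧
      Nonempty (H ⧸ Z ≃* G ⧸ N) ∧ (HZ H → ∀ χ ∈ B, blockHeight 2 B (χ : G → ℂ) = 0)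

def PB5 : Prop :=
  ∀ {G : Type u} [Group G] [Finite G] {M : Ideal AlgInt} (_ : IsPModular 2 M) {B : Set (IrrCharacter G)}
    (_ : IsPBlock M B) {D : Subgroup G} (_ : IsDefectGroup 2 M B D) (_ : E8 D)
    (L H : Subgroup G) [L.Normal] [H.Normal] (_ : L ≤ H) (_ : D ≤ L) (_ : ∃ k : ℕ, L.relIndex H = 2 ^ k)
    (_ : ∀ N : Subgroup G, N.Normal → ∀ b : Set (IrrCharacter ↥N), IsPBlock M b → Cov N b B →
      ∀ g : G, StabilizesBlock N b g), L = H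

def PB6 : Prop :=
  ∀ {G : Type u} [Group G] [Finite G] {M : Ideal AlgInt} (_ : IsPModular 2 M) {B : Set (IrrCharacter G)}
    (_ : IsPBlock M B) {D : Subgroup G} (_ : IsDefectGroup 2 M B D) (_ : E8 D)
    (N : Subgroup G) [N.Normal] (_ : Odd N.index) (_ : HZ ↥N) (b : Set (IrrCharacter ↥N))
    (_ : IsPBlock M b) (_ : ∀ g : G, StabilizesBlock N b g) (_ : Cov N b B),
    ∀ χ ∈ B, blockHeight 2 B (χ : G → ℂ) = 0

def PB10 : Prop :=
  ∀ {G : Type u} [Group G] [Finite G] {M : Ideal AlgInt} (_ : IsPModular 2 M) {B : Set (IrrCharacter G)}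
    (_ : IsPBlock M B) {D : Subgroup G} (_ : IsDefectGroup 2 M B D) (_ : E8 D)
    (N : Subgroup G), ∃ b : Set (IrrCharacter ↥N), IsPBlock M b ∧ Cov N b B

def PB7 : Prop :=
  ∀ {G : Type u} [Group G] [Finite G] (D : Subgroup G) (_ : E8 D) (y : G) (_ : Seven D y)
    (_ : ∀ N : Subgroup G, N.Normal → N ≤ Subgroup.center G ∨ D ≤ N) (_ : ¬ D.Normal)
    (_ : ∀ N : Subgroup G, N.Normal → IsPGroup 2 N → N ≤ D)
    (_ : ∀ N : Subgroup G, N.Normal → D ≤ N → ∀ g : G, ∃ n ∈ N, ∀ d ∈ D, n * (g * d * g⁻¹) * n⁻¹ ∈ D)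
    (_ : ∀ N : Subgroup G, N.Normal → D ≤ N → ∃ e ∈ N, Odd (orderOf e) ∧ (∀ d ∈ D, d * e = e * d) ∧
      ∀ Q : Subgroup G, Q ≤ N → IsPGroup 2 Q → (∀ q ∈ Q, q * e = e * q) →
        ∃ c ∈ N, c * e = e * c ∧ ∀ q ∈ Q, c * q * c⁻¹ ∈ D),
    ∃ K : Subgroup G, K.Normal ∧ IsQuasisimple ↥K ∧ D ≤ K ∧ Odd (Nat.card ↥(Subgroup.center ↥K)) ∧
      Subgroup.centralizer (K : Set G) ≤ Subgroup.center G

def PB8 : Prop :=
  ∀ {G : Type u} [Group G] [Finite G] (K : Subgroup G) [K.Normal] (_ : IsQuasisimple ↥K)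
    (_ : Subgroup.centralizer (K : Set G) ≤ Subgroup.center G) (_ : Odd (Nat.card ↥(Subgroup.center G)))
    (_ : ∀ L H : Subgroup G, L.Normal → H.Normal → L ≤ H → K ≤ L → (∃ k : ℕ, L.relIndex H = 2 ^ k) → L = H),
    Odd K.index

/-- everything used by the reduction -/
structure Inputs : Prop where
  a1 : PA1.{u}
  a5 : PA5.{u}
  b1 : PB1.{u}
  b2 : PB2.{u}
  b3 : PB3.{u}
  b4 : PB4.{u}
  b5 : PB5.{u}
  b6 : PB6.{u}
  b7 : PB7.{u}
  b8 : PB8.{u}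
  b10 : PB10.{u}

end Cfsg.Agent.H38.KKL
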