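import Cfsg.Agent.H38.KKL.Props
import Cfsg.Agent.H38.KKL.Odd

/-!
# S4546, B9: the reduction to quasisimple groups with odd centre (helper38)
-/

set_option autoImplicit false

open Cfsg Cfsg.Agent.H613.KKL

namespace Cfsg.Agent.H38.KKL

universe u

section grp

variable {G : Type u} [Group G] [Finite G]

/-- conjugation of a defect group keeps everything -/
theorem e8_map {D : Subgroup G} (h : E8 D) (g : G) : E8 (D.map (MulAut.conj g).toMonoidHom) := by
  refine ⟨?_, ?_⟩
  · rw [← h.card]
    exact Subgroup.card_map_of_injective (MulAut.conj g).injective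
  · rintro _ ⟨d, hd, rfl⟩
    have h1 := h.inv d hd
    show g * d * g⁻¹ * (g * d * g⁻¹) = 1
    have h2 : g * d * g⁻¹ * (g * d * g⁻¹) = g * (d * d) * g⁻¹ := by group
    rw [h2, h1, mul_one, mul_inv_cancel]

theorem e8_comm {D : Subgroup G} (h : E8 D) {a c : G} (ha : a ∈ D) (hc : c ∈ D) : a * c = c * a := by
  have h1 : ∀ d ∈ D, d⁻¹ = d := fun d hd => inv_eq_of_mul_eq_one_left (h.inv d hd)
  have h2 := h1 _ (D.mul_mem ha hc)
  rw [mul_inv_rev, h1 a ha, h1 c hc] at h2
  exact h2.symm

theorem e8_exists_ne {D : Subgroup G} (h : E8 D) : ∃ a ∈ D, ∃ c ∈ D, a ≠ 1 ∧ c ≠ 1 ∧ a ≠ c := by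
  classical
  haveI : Fintype D := Fintype.ofFinite D
  have h8 : Fintype.card D = 8 := by rw [← Nat.card_eq_fintype_card, h.card]
  obtain ⟨a, c, hac⟩ : ∃ a c : {d : D // d ≠ 1}, a ≠ c := by
    have h7 : Fintype.card {d : D // d ≠ 1} = 7 := by
      rw [Fintype.card_subtype_compl, h8, Fintype.card_subtype_eq]
    exact Fintype.exists_pair_of_one_lt_card (by rw [h7]; norm_num)
  refine ⟨a.1, a.1.2, c.1, c.1.2, ?_, ?_, ?_⟩
  · intro h1
    exact a.2 (Subtype.ext h1)
  · intro h1
    exact c.2 (Subtype.ext h1)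
  · intro h1
    exact hac (Subtype.ext (Subtype.ext h1))

/-- a normal subgroup contains `D` or meets it trivially -/
theorem Seven.dichotomy {D : Subgroup G} {y : G} (hy : Seven D y) (N : Subgroup G) [hN : N.Normal] :
    D ⊓ N = ⊥ ∨ D ≤ N := by
  by_cases h : D ⊓ N = ⊥
  · exact Or.inl h
  · right
    obtain ⟨⟨a, ha⟩, ha1⟩ := Subgroup.ne_bot_iff_exists_ne_one.1 h
    intro c hc
    by_cases hc1 : c = 1
    · rw [hc1]; exact N.one_mem
    · obtain ⟨k, hk⟩ := hy.trans a ha.1 (fun h0 => ha1 (Subtype.ext h0)) c hc hc1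
      rw [← hk]
      exact hN.conj_mem _ ha.2 _

theorem Seven.not_central {D : Subgroup G} (h8 : E8 D) {y : G} (hy : Seven D y) : ¬ D ≤ Subgroup.center G := by
  intro h
  obtain ⟨a, ha, c, hc, ha1, hc1, hac⟩ := e8_exists_ne h8
  obtain ⟨k, hk⟩ := hy.trans a ha ha1 c hc hc1
  apply hac
  rw [← hk, Subgroup.mem_center_iff.1 (h ha) (y ^ k), mul_inv_cancel_right]

theorem odd_center {D : Subgroup G} {y : G} (h8 : E8 D) (hy : Seven D y)
    (hrad : ∀ N : Subgroup G, N.Normal → IsPGroup 2 N → N ≤ D) : Odd (Nat.card (Subgroup.center G)) := by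
  rw [← Nat.not_even_iff_odd]
  intro hev
  obtain ⟨z, hz⟩ := exists_prime_orderOf_dvd_card' 2 hev.two_dvd
  have h1 : IsPGroup 2 (Subgroup.zpowers (z : G)) := by
    rw [IsPGroup.iff_card]
    refine ⟨1, ?_⟩
    rw [Nat.card_zpowers, Subgroup.orderOf_coe, hz, pow_one]
  have hle : Subgroup.zpowers (z : G) ≤ Subgroup.center G := by
    rw [Subgroup.zpowers_le]
    exact z.2
  have h2 : (Subgroup.zpowers (z : G)).Normal := ⟨by
    intro a ha g
    rw [Subgroup.mem_center_iff.1 (hle ha) g, mul_inv_cancel_right]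
    exact ha⟩
  have h3 := hrad _ h2 h1 (Subgroup.mem_zpowers (z : G))
  have h4 := (Seven.dichotomy hy (Subgroup.center G)).resolve_right (Seven.not_central h8 hy)
  have h5 : (z : G) ∈ D ⊓ Subgroup.center G := ⟨h3, z.2⟩
  rw [h4, Subgroup.mem_bot] at h5
  have h6 : z = 1 := Subtype.ext h5
  rw [h6, orderOf_one] at hz
  exact absurd hz (by norm_num)

/-- `D ≤ N Z(G)` implies `D ≤ N` -/
theorem le_of_le_sup {D : Subgroup G} (h8 : E8 D) (hZ : Odd (Nat.card (Subgroup.center G))) (N : Subgroup G)
    [N.Normal] (h : D ≤ N ⊔ Subgroup.center G) : D ≤ N := by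
  intro d hd
  obtain ⟨n, hn, z, hz, hnz⟩ := Subgroup.mem_sup_of_normal_right.1 (h hd)
  have h1 := h8.inv d hd
  have hc := Subgroup.mem_center_iff.1 hz
  have h2 : z * z ∈ N := by
    have h3 : z * z = n⁻¹ * n⁻¹ := by
      rw [← hnz] at h1
      have h4 : n * z * (n * z) = n * n * (z * z) := by
        rw [mul_assoc, ← mul_assoc z n z, ← hc n]
        group
      rw [h4] at h1
      rw [← mul_inv_rev]
      exact eq_inv_of_mul_eq_one_right h1
    rw [h3]
    exact N.mul_mem (N.inv_mem hn) (N.inv_mem hn)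
  have h3 : z ∈ N := by
    obtain ⟨m, hm⟩ := hZ
    have h4 : z ^ (2 * m + 1) = 1 := by
      have h5 : (⟨z, hz⟩ : Subgroup.center G) ^ (2 * m + 1) = 1 := by
        rw [← hm]
        exact pow_card_eq_one'
      exact congrArg Subtype.val h5
    have h5 : z = ((z * z) ^ m)⁻¹ := by
      rw [← pow_two, ← pow_mul]
      rw [pow_succ] at h4
      exact eq_inv_of_mul_eq_one_right h4
    rw [h5]
    exact N.inv_mem (N.pow_mem h2 m)
  rw [← hnz]
  exact N.mul_mem hn h3

/-- the index of the centre of a proper subgroup containing the centre -/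
theorem index_center_lt {T : Subgroup G} (hT : T ≠ ⊤) (hZ : Subgroup.center G ≤ T) :
    (Subgroup.center T).index < (Subgroup.center G).index := by
  have h1 : (Subgroup.center G).subgroupOf T ≤ Subgroup.center T := by
    intro z hz
    rw [Subgroup.mem_center_iff]
    intro g
    exact Subtype.ext (Subgroup.mem_center_iff.1 (Subgroup.mem_subgroupOf.1 hz) g)
  have h2 : (Subgroup.center T).index ≤ (Subgroup.center G).relIndex T :=
    Nat.le_of_dvd (Nat.pos_of_ne_zero Subgroup.index_ne_zero_of_finite) (Subgroup.index_dvd_of_le h1)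
  have h3 := Subgroup.relIndex_mul_index hZ
  have h4 : 1 < T.index := by
    have h5 : T.index ≠ 1 := fun h => hT (Subgroup.index_eq_one.1 h)
    have h6 : T.index ≠ 0 := Subgroup.index_ne_zero_of_finite
    omega
  have h5 : 0 < (Subgroup.center G).relIndex T := Nat.pos_of_ne_zero Subgroup.index_ne_zero_of_finite
  calc (Subgroup.center T).index ≤ (Subgroup.center G).relIndex T := h2
    _ < (Subgroup.center G).relIndex T * T.index := by nlinarith
    _ = (Subgroup.center G).index := h3

end grp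

/-- **B9** from the other statements. -/
theorem B9_of (I : Inputs.{u})
    (h : ∀ (K : Type u) [Group K] [Finite K], IsQuasisimple K → Odd (Nat.card ↥(Subgroup.center K)) → HZ K) :
    ∀ (G : Type u) [Group G] [Finite G], HZ G := by
  have main : ∀ (n : ℕ) (G : Type u) [Group G] [Finite G], (Subgroup.center G).index = n → HZ G := by
    intro n
    induction n using Nat.strong_induction_on with
    | _ n IH =>
    intro G _ _ hn M hM B hB D hD h8 χ hχ
    by_contra hne
    haveI : Fact (Nat.Prime 2) := ⟨Nat.prime_two⟩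
    obtain ⟨x, θ, hcfg⟩ := I.a5 hM hB hD h8 hχ hne
    obtain ⟨y, hy⟩ := hcfg.seven
    -- stability
    have hst : ∀ N : Subgroup G, N.Normal → ∀ b : Set (IrrCharacter ↥N), IsPBlock M b → Cov N b B →
        ∀ g : G, StabilizesBlock N b g := by
      intro N hN b hb hcov
      obtain ⟨T, hT, hZT⟩ := exists_stabilizer N b
      by_cases hTt : T = ⊤
      · intro g
        rw [← hT g, hTt]
        exact Subgroup.mem_top g
      · exfalso
        have h1 := index_center_lt hTt hZT
        rw [hn] at h1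
        exact hne (I.b3 hM hB hD h8 N b hb hcov T hT (IH _ h1 T rfl) χ hχ)
    -- normal 2-subgroups
    have hrad : ∀ N : Subgroup G, N.Normal → IsPGroup 2 N → N ≤ D := by
      intro N hN h2
      refine hcfg.rad ⊥ bot_le N h2 ?_ (fun c _ n hn => hN.conj_mem n hn c)
      intro n _
      rw [Subgroup.mem_centralizer_iff]
      intro a ha
      rw [SetLike.mem_coe, Subgroup.mem_bot] at ha
      rw [ha, one_mul, mul_one]
    have hZ := odd_center h8 hy hrad
    -- normal subgroups
    have hNor : ∀ N : Subgroup G, N.Normal → N ≤ Subgroup.center G ∨ D ≤ N := by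
      intro N hN
      by_cases hDN : D ≤ N
      · exact Or.inr hDN
      left
      have hDN' : ¬ D ≤ N ⊔ Subgroup.center G := fun h => hDN (le_of_le_sup h8 hZ N h)
      have hbot := (Seven.dichotomy hy (N ⊔ Subgroup.center G)).resolve_right hDN'
      obtain ⟨b, hb, hcov⟩ := I.b10 hM hB hD h8 (N ⊔ Subgroup.center G)
      obtain ⟨ξ, hbξ, hinv, hdeg⟩ := I.b2 hM hB hD h8 (N ⊔ Subgroup.center G) b hb (hst _ inferInstance b hb hcov) hcov
        hbot
      subst hbξ
      obtain ⟨H, iH1, iH2, Z, iZ, hZc, ⟨e⟩, hH⟩ := I.b4 hM hB hD h8 (N ⊔ Subgroup.center G) ξ hinv hdeg hcov hbot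
      by_contra hNZ
      have hlt : (Subgroup.center G) < N ⊔ Subgroup.center G :=
        lt_of_le_of_ne le_sup_right (fun h => hNZ (by rw [h]; exact le_sup_left))
      have h1 : (Subgroup.center H).index < n := by
        have h2 : (Subgroup.center H).index ≤ Z.index :=
          Nat.le_of_dvd (Nat.pos_of_ne_zero Subgroup.index_ne_zero_of_finite) (Subgroup.index_dvd_of_le hZc)
        have h3 : Z.index = (N ⊔ Subgroup.center G).index := Nat.card_congr e.toEquiv
        have h4 : (N ⊔ Subgroup.center G).index < (Subgroup.center G).index := by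
          have h5 := Subgroup.relIndex_mul_index hlt.le
          have h6 : 1 < (Subgroup.center G).relIndex (N ⊔ Subgroup.center G) := by
            have h7 : (Subgroup.center G).relIndex (N ⊔ Subgroup.center G) ≠ 1 := fun h =>
              absurd (Subgroup.relIndex_eq_one.1 h) (not_le_of_gt hlt)
            have h8 : (Subgroup.center G).relIndex (N ⊔ Subgroup.center G) ≠ 0 :=
              Subgroup.index_ne_zero_of_finite
            omega
          have h7 : 0 < (N ⊔ Subgroup.center G).index := Nat.pos_of_ne_zero Subgroup.index_ne_zero_of_finite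
          nlinarith
        omega
      exact hne (hH (IH _ h1 H rfl) χ hχ)
    -- `D` is not normal
    have hDn : ¬ D.Normal := by
      intro hDn
      have hCn : (Subgroup.centralizer (D : Set G)).Normal := inferInstance
      obtain ⟨b, hb, hcov⟩ := I.b10 hM hB hD h8 (Subgroup.centralizer (D : Set G))
      have hstb := hst _ hCn b hb hcov
      have hodd : Odd (Subgroup.centralizer (D : Set G)).index := by
        rw [← Nat.not_even_iff_odd, even_iff_two_dvd]
        exact not_dvd_index hM hB hD (fun a ha c hc => e8_comm h8 ha hc) hCn hb hstb hcov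
      have hCt : Subgroup.centralizer (D : Set G) ≠ ⊤ := by
        intro h0
        refine Seven.not_central h8 hy fun d hd => ?_
        rw [Subgroup.mem_center_iff]
        intro g
        have h1 : g ∈ Subgroup.centralizer (D : Set G) := by rw [h0]; exact Subgroup.mem_top g
        exact (Subgroup.mem_centralizer_iff.1 h1 d hd).symm
      have hlt := index_center_lt hCt (Subgroup.center_le_centralizer _)
      rw [hn] at hlt
      exact hne (I.b6 hM hB hD h8 _ hodd (IH _ hlt _ rfl) b hb hstb hcov χ hχ)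
    -- the quasisimple normal subgroup
    have hfr : ∀ N : Subgroup G, N.Normal → D ≤ N → ∀ g : G, ∃ n ∈ N, ∀ d ∈ D, n * (g * d * g⁻¹) * n⁻¹ ∈ D := by
      intro N hN hDN g
      obtain ⟨b, hb, hcov⟩ := I.b10 hM hB hD h8 N
      have hstb := hst N hN b hb hcov
      have h1 := I.b1 hM hB hD h8 N b hb hstb hcov hDN
      have hle : D.map (MulAut.conj g).toMonoidHom ≤ N := by
        rintro _ ⟨d, hd, rfl⟩
        exact hN.conj_mem d (hDN hd) g
      have h2 := I.b1 hM hB (Cfsg.Agent.Blocks.Basic.isDefectGroup_conj hD g) (e8_map h8 g) N b hb hstb hcov hle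
      obtain ⟨m, hm, h3⟩ := frattini hM hb h1 h2 hle
      exact ⟨m, hm, fun d hd => h3 _ ⟨d, hd, rfl⟩⟩
    have hx : ∀ N : Subgroup G, N.Normal → D ≤ N → ∃ e ∈ N, Odd (orderOf e) ∧ (∀ d ∈ D, d * e = e * d) ∧
        ∀ Q : Subgroup G, Q ≤ N → IsPGroup 2 Q → (∀ q ∈ Q, q * e = e * q) →
          ∃ c ∈ N, c * e = e * c ∧ ∀ q ∈ Q, c * q * c⁻¹ ∈ D := by
      intro N hN hDN
      obtain ⟨b, hb, hcov⟩ := I.b10 hM hB hD h8 N
      have hstb := hst N hN b hb hcov
      have h1 := I.b1 hM hB hD h8 N b hb hstb hcov hDN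
      have h8' : E8 (D.subgroupOf N) := by
        refine ⟨?_, ?_⟩
        · rw [← h8.card]
          exact Nat.card_congr (Subgroup.subgroupOfEquivOfLe hDN).toEquiv
        · intro d hd
          exact Subtype.ext (h8.inv d (Subgroup.mem_subgroupOf.1 hd))
      obtain ⟨e, he, hde, hsyl⟩ := I.a1 hM hb h1 h8'
      refine ⟨e, e.2, by rwa [Subgroup.orderOf_coe], fun d hd => congrArg Subtype.val
        (hde ⟨d, hDN hd⟩ (Subgroup.mem_subgroupOf.2 hd)), ?_⟩
      intro Q hQN hQ hQe
      obtain ⟨c, hc, hcQ⟩ := hsyl (Q.subgroupOf N) (hQ.comap_of_injective _ N.subtype_injective)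
        (fun q hq => Subtype.ext (hQe q (Subgroup.mem_subgroupOf.1 hq)))
      exact ⟨c, c.2, congrArg Subtype.val hc, fun q hq =>
        Subgroup.mem_subgroupOf.1 (hcQ ⟨q, hQN hq⟩ (Subgroup.mem_subgroupOf.2 hq))⟩
    obtain ⟨K, hKn, hKq, hDK, hKZ, hKC⟩ := I.b7 D h8 y hy hNor hDn hrad hfr hx
    have hKodd : Odd K.index := I.b8 K hKq hKC hZ (fun L H hL hH hLH hKL h2 =>
      I.b5 hM hB hD h8 L H hLH (hDK.trans hKL) h2 hst)
    obtain ⟨b, hb, hcov⟩ := I.b10 hM hB hD h8 K
    exact hne (I.b6 hM hB hD h8 K hKodd (h K hKq hKZ) b hb (hst K hKn b hb hcov) hcov χ hχ)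
  intro G _ _
  exact main _ G rfl

end Cfsg.Agent.H38.KKL
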